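import Groth.Agent.CechLib.Compare
import Groth.Agent.CechLib.Cartan
import Groth.Agent.QCohLib.Vanishing
import Groth.Agent.QCohLib.OpenRestr
import Groth.Prelude.Def_Coh

/-!
# Cohomology of limits of towers of quasi-coherent modules on affine opens
-/

set_option autoImplicit false
set_option synthInstance.maxHeartbeats 400000
universe u

open CategoryTheory CategoryTheory.Limits AlgebraicGeometry TopologicalSpace Opposite
open CechLib (cap cx Cochain dd rs cochainEquiv rho)
open QCohLib (toAbF HU AbSh)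

noncomputable section

namespace FormalLimVanishLib

section Cech

variable {X : TopCat.{u}} {ι : Type u} (U : ι → Opens X)

/-- apply a map of presheaves to a cochain -/
def cMap {P Q : (Opens X)ᵒᵖ ⥤ AddCommGrpCat.{u}} (φ : P ⟶ Q) (n : ℕ) :
    Cochain U P n →+ Cochain U Q n where
  toFun c J := φ.app (op (cap U J)) (c J)
  map_zero' := funext fun _ => map_zero _
  map_add' _ _ := funext fun _ => map_add _ _ _

theorem cMap_dd {P Q : (Opens X)ᵒᵖ ⥤ AddCommGrpCat.{u}} (φ : P ⟶ Q) (n : ℕ) (c : Cochain U P n) :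
    cMap U φ (n + 1) (dd U P n c) = dd U Q n (cMap U φ n c) := by
  funext J
  show φ.app (op (cap U J)) (dd U P n c J) = _
  rw [CechLib.dd_apply, CechLib.dd_apply, map_sum]
  refine Finset.sum_congr rfl fun k _ => ?_
  rw [map_zsmul]
  exact congrArg _ (ConcreteCategory.congr_hom (φ.naturality (homOfLE (CechLib.cap_comp_le U J k.succAbove)).op) _)

theorem dd_dd (P : (Opens X)ᵒᵖ ⥤ AddCommGrpCat.{u}) (n : ℕ) (c : Cochain U P n) :
    dd U P (n + 1) (dd U P n c) = 0 := by
  obtain ⟨b, rfl⟩ := (cochainEquiv U P n).surjective c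
  rw [← CechLib.ev_d, ← CechLib.ev_d]
  refine (congrArg (cochainEquiv U P (n + 2)) ?_).trans (map_zero _)
  exact ConcreteCategory.congr_hom ((cx U P).d_comp_d n (n + 1) (n + 2)) b

theorem dd_rho (F : AbSh X) (s : F.obj.obj (op (⨆ i, U i))) :
    dd U F.obj 0 (cochainEquiv U F.obj 0 (rho U F s)) = 0 := by
  rw [← CechLib.ev_d]
  refine (congrArg (cochainEquiv U F.obj 1) ?_).trans (map_zero _)
  exact ConcreteCategory.congr_hom (CechLib.rho_d U F) s

end Cech

variable {X : Scheme.{u}}

/-- sections as a functor on modules -/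
abbrev secM (V : X.Opens) : X.Modules ⥤ AddCommGrpCat.{u} :=
  SheafOfModules.evaluation X.ringCatSheaf (op V) ⋙ forget₂ _ AddCommGrpCat

variable (G : ℕᵒᵖ ⥤ X.Modules)

/-- The transition map. -/
abbrev tr (n : ℕ) : G.obj (op (n + 1)) ⟶ G.obj (op n) := G.map (homOfLE (Nat.le_succ n)).op

theorem exists_limit_section (V : X.Opens) (s : ∀ n : ℕ, Γ(G.obj (op n), V))
    (hs : ∀ n, (tr G n).app V (s (n + 1)) = s n) :
    ∃ t : Γ(limit G, V), ∀ n, (limit.π G (op n)).app V t = s n := by
  haveI : PreservesLimitsOfShape ℕᵒᵖ (SheafOfModules.evaluation.{u} X.ringCatSheaf (op V)) :=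
    SheafOfModules.evaluationPreservesLimitsOfShape.{u} ℕᵒᵖ X.ringCatSheaf (op V)
  have : PreservesLimitsOfShape ℕᵒᵖ (secM V) := by
    refine @comp_preservesLimitsOfShape _ _ _ _ _ _ _ _ _ _ ?_ inferInstance
    assumption
  let hc := isLimitOfPreserves (forget AddCommGrpCat.{u}) (isLimitOfPreserves (secM V) (limit.isLimit G))
  let σ : ((G ⋙ secM V) ⋙ forget AddCommGrpCat.{u}).sections :=
    ⟨fun n => s n.unop, fun {m n} f => by
      obtain ⟨d, hd⟩ := Nat.le.dest (leOfHom f.unop)
      have key : ∀ d (m n : ℕ) (h : n + d = m),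
          (G.map (homOfLE (h ▸ Nat.le_add_right n d)).op).app V (s m) = s n := by
        intro d
        induction d with
        | zero =>
          intro m n h
          obtain rfl : n = m := h
          exact ConcreteCategory.congr_hom (congrArg (fun φ => Scheme.Modules.Hom.app φ V) (G.map_id (op n))) (s n)
        | succ d ih =>
          intro m n h
          have e : G.map (homOfLE (h ▸ Nat.le_add_right n (d + 1))).op =
              G.map (homOfLE (show n + 1 ≤ m by omega)).op ≫ tr G n := by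
            rw [← Functor.map_comp, ← op_comp]
            rfl
          refine (ConcreteCategory.congr_hom (congrArg (fun φ => Scheme.Modules.Hom.app φ V) e) (s m)).trans ?_
          exact (congrArg ((tr G n).app V) (ih m (n + 1) (by omega))).trans (hs n)
      exact key d m.unop n.unop hd⟩
  exact ⟨(Types.isLimitEquivSections hc).symm σ, fun n =>
    Types.isLimitEquivSections_symm_apply hc σ (op n)⟩

theorem limit_section_ext (V : X.Opens) (s t : Γ(limit G, V))
    (h : ∀ n, (limit.π G (op n)).app V s = (limit.π G (op n)).app V t) : s = t := by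
  haveI : PreservesLimitsOfShape ℕᵒᵖ (SheafOfModules.evaluation.{u} X.ringCatSheaf (op V)) :=
    SheafOfModules.evaluationPreservesLimitsOfShape.{u} ℕᵒᵖ X.ringCatSheaf (op V)
  have : PreservesLimitsOfShape ℕᵒᵖ (secM V) := by
    refine @comp_preservesLimitsOfShape _ _ _ _ _ _ _ _ _ _ ?_ inferInstance
    assumption
  exact Concrete.isLimit_ext _ (isLimitOfPreserves (secM V) (limit.isLimit G)) s t fun n => h n.unop

variable {ι : Type u} (U : ι → X.Opens)

/-- **Čech cohomology of a limit**: exact towers with surjective transition maps. -/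
theorem exists_dd_eq (hcap : ∀ (p : ℕ) (J : Fin (p + 1) → ι) (n : ℕ), Function.Surjective ((tr G n).app (cap U J)))
    (htop : ∀ n, Function.Surjective ((tr G n).app (⨆ i, U i)))
    (hex : ∀ (n p : ℕ) (c : Cochain U ((toAbF X).obj (G.obj (op n))).obj (p + 1)),
      dd U _ (p + 1) c = 0 → ∃ b, dd U _ p b = c)
    (p : ℕ) (c : Cochain U ((toAbF X).obj (limit G)).obj (p + 1)) (hc : dd U _ (p + 1) c = 0) :
    ∃ b, dd U ((toAbF X).obj (limit G)).obj p b = c := by
  let P : ℕ → (Opens X.toTopCat)ᵒᵖ ⥤ AddCommGrpCat.{u} := fun n => ((toAbF X).obj (G.obj (op n))).obj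
  let π : ∀ n, ((toAbF X).obj (limit G)).obj ⟶ P n := fun n => ((toAbF X).map (limit.π G (op n))).hom
  let t : ∀ n, P (n + 1) ⟶ P n := fun n => ((toAbF X).map (tr G n)).hom
  have htπ : ∀ n q (z : Cochain U ((toAbF X).obj (limit G)).obj q),
      cMap U (t n) q (cMap U (π (n + 1)) q z) = cMap U (π n) q z := fun n q z => funext fun J =>
    ConcreteCategory.congr_hom (congrArg (fun φ => Scheme.Modules.Hom.app φ (cap U J))
      (limit.w G (homOfLE (Nat.le_succ n)).op)) (z J)
  have hlift : ∀ n q (e : Cochain U (P n) q), ∃ e', cMap U (t n) q e' = e := fun n q e => by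
    choose e' he' using fun J : Fin (q + 1) → ι => hcap q J n (e J)
    exact ⟨e', funext he'⟩
  have step : ∀ n (b : Cochain U (P n) p), dd U (P n) p b = cMap U (π n) (p + 1) c →
      ∃ b', dd U (P (n + 1)) p b' = cMap U (π (n + 1)) (p + 1) c ∧ cMap U (t n) p b' = b := by
    intro n b hb
    obtain ⟨b₁, hb₁⟩ := hex (n + 1) p (cMap U (π (n + 1)) (p + 1) c) (by rw [← cMap_dd, hc, map_zero])
    have hz : dd U (P n) p (cMap U (t n) p b₁ - b) = 0 := by
      rw [map_sub, ← cMap_dd, hb₁, htπ, hb, sub_self]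
    suffices h : ∃ w : Cochain U (P (n + 1)) p, dd U (P (n + 1)) p w = 0 ∧
        cMap U (t n) p w = cMap U (t n) p b₁ - b by
      obtain ⟨w, hw, hw'⟩ := h
      exact ⟨b₁ - w, by rw [map_sub, hw, sub_zero, hb₁], by rw [map_sub, hw', sub_sub_cancel]⟩
    cases p with
    | zero =>
      obtain ⟨s, hs⟩ := CechLib.exists_rho_eq U ((toAbF X).obj (G.obj (op n))) _ hz
      obtain ⟨s', hs'⟩ := htop n s
      refine ⟨cochainEquiv U _ 0 (rho U ((toAbF X).obj (G.obj (op (n + 1)))) s'), dd_rho U _ _, ?_⟩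
      refine Eq.trans ?_ hs
      funext J
      show ((tr G n).app (cap U J)) (cochainEquiv U ((toAbF X).obj (G.obj (op (n + 1)))).obj 0
        (rho U ((toAbF X).obj (G.obj (op (n + 1)))) s') J) = _
      rw [CechLib.cochainEquiv_rho, CechLib.cochainEquiv_rho]
      refine Eq.trans ?_ (congrArg (rs _ (CechLib.cap_le_iSup U J)) hs')
      exact ConcreteCategory.congr_hom ((t n).naturality (homOfLE (CechLib.cap_le_iSup U J)).op) s'
    | succ q =>
      obtain ⟨e, he⟩ := hex n q _ hz
      obtain ⟨e', he'⟩ := hlift n q e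
      exact ⟨dd U _ q e', dd_dd U _ q e', by rw [cMap_dd, he', he]⟩
  obtain ⟨b0, hb0⟩ := hex 0 p (cMap U (π 0) (p + 1) c) (by rw [← cMap_dd, hc, map_zero])
  choose next hnext hnext' using step
  let T : ∀ n, { b : Cochain U (P n) p // dd U (P n) p b = cMap U (π n) (p + 1) c } := fun n =>
    Nat.rec ⟨b0, hb0⟩ (fun n b => ⟨next n b.1 b.2, hnext n b.1 b.2⟩) n
  choose b hb using fun J : Fin (p + 1) → ι =>
    exists_limit_section G (cap U J) (fun n => (T n).1 J) fun n => congr_fun (hnext' n _ _) J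
  refine ⟨b, funext fun J => limit_section_ext G _ _ _ fun n => ?_⟩
  refine Eq.trans ?_ (congr_fun (T n).2 J)
  have e : cMap U (π n) p b = (T n).1 := funext fun K => hb K n
  rw [← e, ← cMap_dd]
  rfl

/-- **Limits of towers of quasi-coherent modules with surjective transition maps are acyclic on affine opens.** -/
theorem subsingleton_HU_limit (hq : ∀ n, Coh.IsQCoh (G.obj (op n)))
    (hsurj : ∀ (n : ℕ) (V : X.Opens), IsAffineOpen V → Function.Surjective ((tr G n).app V))
    (q : ℕ) (W : X.Opens) (hW : IsAffineOpen W) :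
    Subsingleton (HU ((toAbF X).obj (limit G)) (q + 1) W) := by
  let B : Set (Opens X.toTopCat) := {V | IsAffineOpen (X := X) V}
  let Cov : ∀ (κ : Type u), (κ → Opens X.toTopCat) → Prop := fun κ V =>
    IsAffineOpen (X := X) (iSup V) ∧ ∀ (p : ℕ) (a : Fin (p + 1) → κ), IsAffineOpen (X := X) (cap V a)
  refine CechLib.subsingleton_HU_of_cartan B Cov (fun κ V hV => hV.2) ?_ _ ?_ q W hW
  · intro V hV κ T hT
    have hx : ∀ x : V, ∃ (k : κ) (f : Γ(X, V)), X.basicOpen f ≤ T k ∧ x.1 ∈ X.basicOpen f := fun x => by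
      obtain ⟨k, hk⟩ := Opens.mem_iSup.mp (hT.symm.le x.2)
      obtain ⟨f, hf, hxf⟩ := hV.exists_basicOpen_le ⟨x.1, hk⟩ x.2
      exact ⟨k, f, hf, hxf⟩
    choose k f hf hxf using hx
    have hsup : (⨆ x : V, X.basicOpen (f x)) = V := le_antisymm
      (iSup_le fun x => X.basicOpen_le _) fun x hx => Opens.mem_iSup.mpr ⟨⟨x, hx⟩, hxf ⟨x, hx⟩⟩
    refine ⟨V, fun x => X.basicOpen (f x), ⟨(congrArg (fun W : X.Opens => IsAffineOpen W) hsup).mpr hV, fun p a => ?_⟩, hsup, fun x => ⟨k x, hf x⟩⟩
    have hcap : ∀ (p : ℕ) (a : Fin (p + 1) → V), ∃ g : Γ(X, V), cap (fun x : V => X.basicOpen (f x)) a = X.basicOpen g := by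
      intro p
      induction p with
      | zero =>
        exact fun a => ⟨f (a 0), le_antisymm (CechLib.cap_le _ a 0)
          ((CechLib.le_cap_iff _).mpr fun i => by rw [Subsingleton.elim (α := Fin 1) i 0])⟩
      | succ p ih =>
        intro a
        obtain ⟨g, hg⟩ := ih (a ∘ Fin.succ)
        refine ⟨f (a 0) * g, ?_⟩
        rw [X.basicOpen_mul, ← hg]
        refine le_antisymm (le_inf (CechLib.cap_le _ a 0) (CechLib.cap_comp_le _ a Fin.succ))
          ((CechLib.le_cap_iff _).mpr fun i => ?_)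
        induction i using Fin.cases with
        | zero => exact inf_le_left
        | succ j => exact inf_le_right.trans (CechLib.cap_le _ (a ∘ Fin.succ) j)
    obtain ⟨g, hg⟩ := hcap p a
    rw [hg]
    exact hV.basicOpen g
  · intro κ V hV p
    rw [CechLib.isZero_homology_succ_iff]
    refine fun c hc => exists_dd_eq G V (fun p J n => hsurj n _ (hV.2 p J)) (fun n => hsurj n _ hV.1) (fun n p => ?_) p c hc
    rw [← CechLib.isZero_homology_succ_iff]
    haveI := hq n
    obtain ⟨e⟩ := CechLib.nonempty_homology_equiv V (p + 1) ((toAbF X).obj (G.obj (op n)))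
      fun m J q => QCohLib.subsingleton_HU_affine (G.obj (op n)) q (hV.2 m J)
    haveI := QCohLib.subsingleton_HU_affine (G.obj (op n)) p hV.1
    exact AddCommGrpCat.isZero_of_iff_subsingleton.mpr e.toEquiv.subsingleton

end FormalLimVanishLib

end
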